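import Groth.Agent.EGA43.FlatDescent.GenFreeGeneral
import Groth.Agent.EGA43.AlgMisc
import Groth.Agent.CAlgH.FlatQuotient
import Mathlib.RingTheory.Nilpotent.Lemmas
import Mathlib.LinearAlgebra.TensorProduct.DirectLimit

/-!
# Flattening ideals, algebraic form (EGA IV 11.4)
-/

universe u

set_option autoImplicit false
set_option backward.isDefEq.respectTransparency false

open TensorProduct Function

namespace Groth.Agent.EGA43.FlatIdeal

/-- A module that is free modulo a nilpotent ideal `I` has an ideal `J ≤ I` such that base change of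
the module is flat exactly when `J` dies. -/
theorem exists_ideal_of_free_quot {A D : Type u} [CommRing A] [CommRing D] [Algebra A D]
    (hsurj : Surjective (algebraMap A D)) (hnil : IsNilpotent (RingHom.ker (algebraMap A D)))
    (M : Type u) [AddCommGroup M] [Module A M] (hfree : Module.Free D (D ⊗[A] M)) :
    ∃ J : Ideal A, J ≤ RingHom.ker (algebraMap A D) ∧
      ∀ (A' : Type u) [CommRing A'] [Algebra A A'],
        Module.Flat A' (A' ⊗[A] M) ↔ J.map (algebraMap A A') = ⊥ := by
  classical
  let I := RingHom.ker (algebraMap A D)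
  let ι := TensorProduct.mk A D M 1
  have hker : ∀ x : M, ι x = 0 → x ∈ I • (⊤ : Submodule A M) := fun x hx => by
    have hI : Exact (I.subtype : I →ₗ[A] A) (Algebra.linearMap A D) := fun a =>
      ⟨fun h => ⟨⟨a, h⟩, rfl⟩, fun ⟨⟨b, hb⟩, he⟩ => he ▸ hb⟩
    obtain ⟨y, hy⟩ := (rTensor_exact M hI hsurj (1 ⊗ₜ x)).1 (by simpa [ι] using hx)
    have hy' : TensorProduct.lid A M (I.subtype.rTensor M y) = x := by rw [hy]; simp
    rw [← hy']
    clear hy hy'
    induction y using TensorProduct.induction_on with
    | zero => simp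
    | add a b ha hb => rw [map_add, map_add]; exact add_mem ha hb
    | tmul a n =>
      rw [LinearMap.rTensor_tmul, TensorProduct.lid_tmul]
      exact Submodule.smul_mem_smul a.2 trivial
  let κ := Module.Free.ChooseBasisIndex D (D ⊗[A] M)
  let b : Module.Basis κ D (D ⊗[A] M) := Module.Free.chooseBasis D (D ⊗[A] M)
  choose v hv using fun j => TensorProduct.mk_surjective A M D hsurj (b j)
  let f : (κ →₀ A) →ₗ[A] M := Finsupp.linearCombination A v
  let g : M →ₗ[A] (κ →₀ D) := (b.repr.toLinearMap.restrictScalars A) ∘ₗ ι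
  let q : (κ →₀ A) →ₗ[A] (κ →₀ D) := Finsupp.mapRange.linearMap (Algebra.linearMap A D)
  have hgf : g ∘ₗ f = q := by
    refine Finsupp.lhom_ext fun j c => ?_
    show b.repr (ι (Finsupp.linearCombination A v (Finsupp.single j c))) = _
    rw [Finsupp.linearCombination_single, map_smul, show ι (v j) = b j from hv j,
      ← algebraMap_smul D c (b j), map_smul, b.repr_self, Finsupp.smul_single, smul_eq_mul, mul_one]
    exact (Finsupp.mapRange_single (hf := map_zero _)).symm
  have hfs : Surjective f := by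
    rw [← LinearMap.range_eq_top]
    refine EGA43.eq_top_of_sup_smul_top hnil _ (Submodule.eq_top_iff'.2 fun m => ?_)
    obtain ⟨y, hy⟩ := Finsupp.mapRange_surjective _ (map_zero (algebraMap A D)) hsurj (g m)
    rw [← add_sub_cancel (f y) m]
    refine Submodule.add_mem_sup ⟨y, rfl⟩ (hker _ (b.repr.injective ?_))
    rw [map_sub, map_sub, map_zero]
    show g m - g (f y) = 0
    rw [← LinearMap.comp_apply, hgf, show q y = g m from hy, sub_self]
  let J : Ideal A := Ideal.span {a | ∃ y ∈ LinearMap.ker f, ∃ j, y j = a}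
  refine ⟨J, Ideal.span_le.2 ?_, fun A' _ _ => ?_⟩
  · rintro a ⟨y, hy, j, rfl⟩
    have h0 : q y = 0 := by rw [← hgf, LinearMap.comp_apply, LinearMap.mem_ker.1 hy, map_zero]
    exact DFunLike.congr_fun h0 j
  let f' : A' ⊗[A] (κ →₀ A) →ₗ[A'] A' ⊗[A] M := f.baseChange A'
  have hf's : Surjective f' := LinearMap.lTensor_surjective A' hfs
  have key : ∀ (c : A') (y : κ →₀ A),
      c ⊗ₜ[A] y = y.sum fun j a => (a • c) ⊗ₜ[A] Finsupp.single j (1 : A) := fun c y => by
    conv_lhs => rw [← Finsupp.sum_single y, Finsupp.sum, TensorProduct.tmul_sum]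
    refine Finset.sum_congr rfl fun j _ => ?_
    rw [← mul_one (y j), ← smul_eq_mul (y j) 1, ← Finsupp.smul_single, ← TensorProduct.smul_tmul,
      smul_eq_mul, mul_one]
  constructor
  · intro hflat
    have : Module.Flat A' ((A' ⊗[A] (κ →₀ A)) ⧸ LinearMap.ker f') :=
      Module.Flat.of_linearEquiv (f'.quotKerEquivOfSurjective hf's)
    let I' := I.map (algebraMap A A')
    have hqs : Surjective q := Finsupp.mapRange_surjective _ (map_zero (algebraMap A D)) hsurj
    have hle : LinearMap.ker f' ≤ I' • LinearMap.ker f' := by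
      intro z hz
      refine CAlgH.inf_smul_top_le_of_flat_quotient (LinearMap.ker f') I' ⟨hz, ?_⟩
      have hqz : q.lTensor A' z = 0 := by
        rw [← hgf, LinearMap.lTensor_comp, LinearMap.comp_apply,
          show f.lTensor A' z = 0 from hz, map_zero]
      have hex : Exact ((LinearMap.ker q).subtype.lTensor A') (q.lTensor A') :=
        lTensor_exact (M := ↥(LinearMap.ker q)) A' (LinearMap.exact_subtype_ker_map q) hqs
      obtain ⟨w, rfl⟩ := (hex z).1 hqz
      clear hz hqz
      induction w using TensorProduct.induction_on with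
      | zero => simp
      | add u w hu hw => rw [map_add]; exact add_mem hu hw
      | tmul c y =>
        rw [LinearMap.lTensor_tmul, key]
        refine Submodule.sum_mem _ fun j _ => ?_
        have hj : (y.1 j) ∈ I := DFunLike.congr_fun (LinearMap.mem_ker.1 y.2) j
        have : ((y.1 j) • c) ⊗ₜ[A] Finsupp.single j (1 : A) =
            (algebraMap A A' (y.1 j)) • (c ⊗ₜ[A] Finsupp.single j (1 : A)) := by
          rw [algebraMap_smul, TensorProduct.smul_tmul']
        show ((y.1 j) • c) ⊗ₜ[A] Finsupp.single j (1 : A) ∈ _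
        rw [this]
        exact Submodule.smul_mem_smul (Ideal.mem_map_of_mem _ hj) trivial
    have hbot : LinearMap.ker f' = ⊥ := by
      obtain ⟨n, hn⟩ := hnil
      have key : ∀ n, LinearMap.ker f' ≤ I' ^ n • LinearMap.ker f' := by
        intro n
        induction n with
        | zero => simp
        | succ n ih =>
          refine hle.trans ?_
          rw [pow_succ', Submodule.mul_smul]
          exact Submodule.smul_mono le_rfl ih
      refine eq_bot_iff.2 ((key n).trans ?_)
      rw [show I' ^ n = ⊥ by rw [← Ideal.map_pow, show I ^ n = 0 from hn]; simp]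
      simp
    rw [Ideal.map_eq_bot_iff_le_ker, Ideal.span_le]
    rintro a ⟨y, hy, j, rfl⟩
    have h0 : (1 : A') ⊗ₜ[A] y = 0 := by
      rw [← Submodule.mem_bot A', ← hbot, LinearMap.mem_ker]
      show (1 : A') ⊗ₜ[A] f y = 0
      rw [LinearMap.mem_ker.1 hy, tmul_zero]
    have h1 := congrArg (fun z => TensorProduct.finsuppScalarRight A A A' κ z j) h0
    simpa [Algebra.smul_def] using h1
  · intro hJ
    rw [Ideal.map_eq_bot_iff_le_ker] at hJ
    have hinj : Injective f' := by
      rw [injective_iff_map_eq_zero]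
      intro z hz
      have hex : Exact ((LinearMap.ker f).subtype.lTensor A') (f.lTensor A') :=
        lTensor_exact (M := ↥(LinearMap.ker f)) A' (LinearMap.exact_subtype_ker_map f) hfs
      obtain ⟨w, rfl⟩ := (hex z).1 hz
      clear hz
      induction w using TensorProduct.induction_on with
      | zero => simp
      | add u w hu hw => rw [map_add, hu, hw, add_zero]
      | tmul c y =>
        rw [LinearMap.lTensor_tmul, key, Submodule.subtype_apply]
        refine Finset.sum_eq_zero fun j _ => ?_
        have : algebraMap A A' (y.1 j) = 0 := hJ (Ideal.subset_span ⟨y.1, y.2, j, rfl⟩)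
        show ((y.1 j) • c) ⊗ₜ[A] Finsupp.single j (1 : A) = 0
        rw [Algebra.smul_def, this, zero_mul, zero_tmul]
    exact Module.Flat.of_linearEquiv (LinearEquiv.ofBijective f' ⟨hinj, hf's⟩).symm

attribute [local instance] FlatDescent.bcModule in
set_option maxHeartbeats 800000 in
theorem exists_flattening_noetherian {A B : Type u} [CommRing A] [IsNoetherianRing A]
    [(nilradical A).IsPrime] [CommRing B] [Algebra A B] [Algebra.FiniteType A B] (M : Type u)
    [AddCommGroup M] [Module B M] [Module A M] [IsScalarTower A B M] [Module.Finite B M] :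
    ∃ (h : A) (_ : ¬ IsNilpotent h) (J : Ideal A), J ≤ nilradical A ∧
      ∀ (A' : Type u) [CommRing A'] [Algebra A A'], IsUnit (algebraMap A A' h) →
        (Module.Flat A' (A' ⊗[A] M) ↔ J.map (algebraMap A A') = ⊥) := by
  let N := nilradical A
  let D := A ⧸ N
  have := FlatDescent.finite_bc A B M D
  obtain ⟨d, hd, hfree⟩ := GenFree.gFree (R := D) (S := D ⊗[A] B) (D ⊗[A] M)
  obtain ⟨h, rfl⟩ := Ideal.Quotient.mk_surjective d
  have hh : h ∉ N := fun hc => hd (Ideal.Quotient.eq_zero_iff_mem.2 hc)
  let A₁ := Localization.Away h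
  let Df := Localization.Away (Ideal.Quotient.mk N h)
  let φ : A₁ →+* Df :=
    IsLocalization.Away.lift (S := A₁) h (g := (algebraMap D Df).comp (Ideal.Quotient.mk N))
      (IsLocalization.Away.algebraMap_isUnit (Ideal.Quotient.mk N h))
  have hφ : ∀ a, φ (algebraMap A A₁ a) = algebraMap D Df (Ideal.Quotient.mk N a) := fun a =>
    IsLocalization.Away.lift_eq (R := A) (S := A₁) (P := Df) h _ a
  let _ : Algebra A₁ Df := φ.toAlgebra
  have : IsScalarTower A A₁ Df := .of_algebraMap_eq fun a => (hφ a).symm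
  have hφm : ∀ (a : A) (k : ℕ), φ (IsLocalization.mk' A₁ a (⟨h ^ k, k, rfl⟩ : Submonoid.powers h)) =
      IsLocalization.mk' Df (Ideal.Quotient.mk N a)
        (⟨Ideal.Quotient.mk N h ^ k, k, rfl⟩ : Submonoid.powers (Ideal.Quotient.mk N h)) := fun a k => by
    rw [IsLocalization.eq_mk'_iff_mul_eq]
    show φ _ * algebraMap D Df (Ideal.Quotient.mk N h ^ k) = _
    rw [← map_pow, ← hφ, ← map_mul]
    exact (congrArg φ (IsLocalization.mk'_spec A₁ a _)).trans (hφ a)
  have hsurj : Surjective (algebraMap A₁ Df) := fun y => by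
    obtain ⟨d, ⟨_, k, rfl⟩, rfl⟩ := IsLocalization.exists_mk'_eq (Submonoid.powers (Ideal.Quotient.mk N h)) y
    obtain ⟨a, rfl⟩ := Ideal.Quotient.mk_surjective d
    exact ⟨_, hφm a k⟩
  have hcomap : ∀ a : A, algebraMap A A₁ a ∈ RingHom.ker (algebraMap A₁ Df) → a ∈ N := fun a ha => by
    have ha' : algebraMap D Df (Ideal.Quotient.mk N a) = 0 := (hφ a).symm.trans ha
    obtain ⟨⟨_, k, rfl⟩, hk⟩ := (IsLocalization.map_eq_zero_iff (Submonoid.powers (Ideal.Quotient.mk N h)) Df _).1 ha'
    rw [show (Ideal.Quotient.mk N h) ^ k * Ideal.Quotient.mk N a = Ideal.Quotient.mk N (h ^ k * a) by simp,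
      Ideal.Quotient.eq_zero_iff_mem] at hk
    exact ((‹(nilradical A).IsPrime›).mem_or_mem hk).resolve_left fun hc => hh (Ideal.IsPrime.mem_of_pow_mem ‹_› k hc)
  have hker : RingHom.ker (algebraMap A₁ Df) ≤ nilradical A₁ := fun x hx => by
    obtain ⟨a, ⟨_, k, rfl⟩, rfl⟩ := IsLocalization.exists_mk'_eq (Submonoid.powers h) x
    rw [IsLocalization.mk'_eq_mul_mk'_one] at hx ⊢
    refine Ideal.mul_mem_right _ _ (IsNilpotent.map (show IsNilpotent a from hcomap a ?_) (algebraMap A A₁))
    rw [← IsLocalization.mk'_spec' A₁ a (⟨h ^ k, k, rfl⟩ : Submonoid.powers h),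
      IsLocalization.mk'_eq_mul_mk'_one]
    exact Ideal.mul_mem_left _ _ hx
  have : IsNoetherianRing A₁ := IsLocalization.isNoetherianRing (Submonoid.powers h) A₁ inferInstance
  have hnil : IsNilpotent (RingHom.ker (algebraMap A₁ Df)) := by
    obtain ⟨n, hn⟩ := IsNoetherianRing.isNilpotent_nilradical A₁
    exact ⟨n, le_bot_iff.1 ((Ideal.pow_right_mono hker n).trans hn.le)⟩
  obtain ⟨J₁, hJ₁, key⟩ := exists_ideal_of_free_quot hsurj hnil (A₁ ⊗[A] M)
    (.of_equiv ((AlgebraTensorModule.cancelBaseChange A D Df Df M) ≪≫ₗ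
      (AlgebraTensorModule.cancelBaseChange A A₁ Df Df M).symm))
  refine ⟨h, fun hn => hh hn, J₁.comap (algebraMap A A₁), fun a ha => hcomap a (hJ₁ ha),
    fun A' _ _ hu => ?_⟩
  let ψ : A₁ →+* A' := IsLocalization.Away.lift (S := A₁) h (g := algebraMap A A') hu
  let _ : Algebra A₁ A' := ψ.toAlgebra
  have : IsScalarTower A A₁ A' :=
    .of_algebraMap_eq fun a => (IsLocalization.Away.lift_eq (S := A₁) h hu a).symm
  rw [Module.Flat.equiv_iff (AlgebraTensorModule.cancelBaseChange A A₁ A' A' M).symm, key A',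
    ← IsLocalization.map_under (Submonoid.powers h) A₁ J₁, Ideal.map_map, ← IsScalarTower.algebraMap_eq,
    Ideal.under_def, IsLocalization.map_under (Submonoid.powers h) A₁ J₁]

/-- Flattening ideal of a finitely presented module. -/
theorem exists_flattening {A B : Type u} [CommRing A] [(nilradical A).IsPrime] [CommRing B]
    [Algebra A B] [Algebra.FinitePresentation A B] (M : Type u) [AddCommGroup M] [Module B M]
    [Module A M] [IsScalarTower A B M] [Module.FinitePresentation B M] :
    ∃ (h : A) (_ : ¬ IsNilpotent h) (J : Ideal A) (_ : J.FG), J ≤ nilradical A ∧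
      ∀ (A' : Type u) [CommRing A'] [Algebra A A'], IsUnit (algebraMap A A' h) →
        (Module.Flat A' (A' ⊗[A] M) ↔ J.map (algebraMap A A') = ⊥) := by
  obtain ⟨R, _, P, M₀, _, _, _, _, _, _, _, _, ψ, e, -, -⟩ :=
    FlatDescent.exists_model_of_finitePresentation (A := A) (S := B) (N := M)
  have hnil : ∀ r : R, IsNilpotent r ↔ IsNilpotent (algebraMap R A r) := fun r =>
    (IsNilpotent.map_iff (f := algebraMap R A) Subtype.val_injective).symm
  have : (nilradical R).IsPrime := by
    rw [show nilradical R = (nilradical A).comap (algebraMap R A) from Ideal.ext fun r => hnil r]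
    exact Ideal.IsPrime.comap _
  obtain ⟨h, hh, J, hJ, key⟩ := exists_flattening_noetherian (A := R) (B := P) M₀
  refine ⟨algebraMap R A h, fun hc => hh ((hnil h).2 hc), J.map (algebraMap R A),
    Ideal.FG.map (IsNoetherian.noetherian J) _, Ideal.map_le_iff_le_comap.2 fun r hr => (hnil r).1 (hJ hr),
    fun A' _ _ hu => ?_⟩
  rw [Ideal.map_map, ← IsScalarTower.algebraMap_eq R A A', Module.Flat.equiv_iff
    ((AlgebraTensorModule.congr (.refl A' A') e.symm) ≪≫ₗ
      AlgebraTensorModule.cancelBaseChange R A A' A' M₀)]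
  exact key A' hu

end Groth.Agent.EGA43.FlatIdeal
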