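import Groth.Agent.EGA43.FlatIdeal.Algebra
import Groth.Agent.EGA43.FlatDescent.NilFree

/-!
# The least ideal modulo which a module is free (EGA IV 11.4.1)
-/

universe u

set_option autoImplicit false
set_option backward.isDefEq.respectTransparency false

open TensorProduct Function

namespace Groth.Agent.EGA43.FlatIdeal

theorem free_of_flat_baseChange {A : Type u} [CommRing A] (J : Ideal A) (hJ : IsNilpotent J) (M : Type u)
    [AddCommGroup M] [Module A M] (hfree : Module.Free (A ⧸ J) ((A ⧸ J) ⊗[A] M))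
    (A' : Type u) [CommRing A'] [Algebra A A'] [Module.Flat A' (A' ⊗[A] M)] : Module.Free A' (A' ⊗[A] M) := by
  let J' := J.map (algebraMap A A')
  let D := A' ⧸ J'
  let φ : (A ⧸ J) →+* D := Ideal.quotientMap J' (algebraMap A A') Ideal.le_comap_map
  let _ : Algebra (A ⧸ J) D := φ.toAlgebra
  have : IsScalarTower A (A ⧸ J) D := .of_algebraMap_eq fun x => rfl
  refine FlatDescent.free_of_flat_of_free_quot (A' := D) Ideal.Quotient.mk_surjective ?_ _ ?_
  · obtain ⟨n, hn⟩ := hJ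
    refine ⟨n, ?_⟩
    rw [Ideal.Quotient.algebraMap_eq, Ideal.mk_ker, ← Ideal.map_pow, hn]
    exact Ideal.map_bot
  · have := hfree
    exact Module.Free.of_equiv ((AlgebraTensorModule.cancelBaseChange A (A ⧸ J) D D M).trans
      (AlgebraTensorModule.cancelBaseChange A A' D D M).symm)

theorem exists_least_ideal {A : Type u} [CommRing A] (M : Type u) [AddCommGroup M] [Module A M]
    (J : Ideal A) (hJ : IsNilpotent J) (hfree : Module.Free (A ⧸ J) ((A ⧸ J) ⊗[A] M)) :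
    ∃ R₀ : Ideal A,
      IsLeast {R : Ideal A | Module.Free (A ⧸ R) ((A ⧸ R) ⊗[A] M)} R₀ ∧
      IsLeast {R : Ideal A | Module.Flat (A ⧸ R) ((A ⧸ R) ⊗[A] M)} R₀ ∧
      ∀ (A' : Type u) [CommRing A'] [Algebra A A'],
        (Module.Free A' (A' ⊗[A] M) ↔ Ideal.map (algebraMap A A') R₀ = ⊥) ∧
        (Module.Flat A' (A' ⊗[A] M) ↔ Ideal.map (algebraMap A A') R₀ = ⊥) := by
  obtain ⟨R₀, -, hR⟩ := exists_ideal_of_free_quot (D := A ⧸ J) Ideal.Quotient.mk_surjective
    (by rw [Ideal.Quotient.algebraMap_eq, Ideal.mk_ker]; exact hJ) M hfree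
  have hff : ∀ (A' : Type u) [CommRing A'] [Algebra A A'],
      Module.Free A' (A' ⊗[A] M) ↔ Ideal.map (algebraMap A A') R₀ = ⊥ := fun A' _ _ =>
    ⟨fun _ => (hR A').1 inferInstance, fun h => have := (hR A').2 h; free_of_flat_baseChange J hJ M hfree A'⟩
  have hq : ∀ R : Ideal A, R₀.map (algebraMap A (A ⧸ R)) = ⊥ ↔ R₀ ≤ R := fun R => by
    rw [Ideal.map_eq_bot_iff_le_ker, Ideal.Quotient.algebraMap_eq, Ideal.mk_ker]
  exact ⟨R₀, ⟨(hff _).2 ((hq R₀).2 le_rfl), fun R h => (hq R).1 ((hff _).1 h)⟩,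
    ⟨(hR _).2 ((hq R₀).2 le_rfl), fun R h => (hq R).1 ((hR _).1 h)⟩, fun A' _ _ => ⟨hff A', hR A'⟩⟩

end Groth.Agent.EGA43.FlatIdeal
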