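import Groth.Agent.EGA43.FlatIdeal.Algebra
import Groth.Agent.EGA43.InjFibre.InjFlatScheme
import Groth.Agent.Props12.FlatOver

/-!
# Flattening ideals over an affine irreducible base (EGA IV 11.4)
-/

universe u

set_option autoImplicit false
set_option backward.isDefEq.respectTransparency false

open CategoryTheory CategoryTheory.Limits AlgebraicGeometry Opposite TopologicalSpace TensorProduct

namespace Groth.Agent.EGA43.FlatIdeal

section

variable {X Y : Scheme.{u}} (f : X ⟶ Y) (F : X.Modules) [Coh.IsQCoh F]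

/-- Flatness of the base change of a module on one affine piece. -/
theorem flat_piece_iff {Y' : Scheme.{u}} (g : Y' ⟶ Y) {U : X.Opens} (hU : IsAffineOpen U)
    [IsAffine Y] [IsAffine Y'] :
    letI := (g.appLE ⊤ ⊤ le_top).hom.toAlgebra
    letI := QcohFlat.overModule f F ⊤ U le_top
    (∀ x : ↥(pullback f g), pullback.fst f g x ∈ U →
        FlatMod.IsFlatOverAt (pullback.snd f g) ((Scheme.Modules.pullback (pullback.fst f g)).obj F) x) ↔
      Module.Flat Γ(Y', ⊤) (Γ(Y', ⊤) ⊗[Γ(Y, ⊤)] Γ(F, U)) := by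
  let W := (pullback.fst f g) ⁻¹ᵁ U ⊓ (pullback.snd f g) ⁻¹ᵁ ⊤
  have H := IsPullback.of_hasPullback f g
  have hWa : IsAffineOpen W :=
    InjFibre.isAffineOpen_inf_preimage H (isAffineOpen_top Y) hU (isAffineOpen_top Y') le_top le_top
  have hQ := InjFibre.isQCoh_pullback (pullback.fst f g) F
  obtain ⟨-, hPF, -, μ', -, hμ', -⟩ := InjFibre.exists_baseChange_data H (𝟙 F) (isAffineOpen_top Y) hU
    (isAffineOpen_top Y') le_top le_top (W := W) rfl hWa
  let _ := (g.appLE ⊤ ⊤ le_top).hom.toAlgebra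
  let _ := QcohFlat.overModule f F ⊤ U le_top
  let _ := QcohFlat.overModule (pullback.snd f g) ((Scheme.Modules.pullback (pullback.fst f g)).obj F) ⊤ W le_top
  let _ : Module Γ(Y, ⊤) Γ((Scheme.Modules.pullback (pullback.fst f g)).obj F, W) :=
    Module.compHom _ (((pullback.fst f g).appLE U W inf_le_left).hom.comp (f.appLE ⊤ U le_top).hom)
  rw [Module.Flat.equiv_iff hμ'.equiv]
  exact (forall_congr' fun x => ⟨fun h hx => h hx.1, fun h hx => h ⟨hx, trivial⟩⟩).trans
    (Props12.flat_sections_iff (pullback.snd f g) _ (isAffineOpen_top Y') hWa le_top).symm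

theorem exists_flattening_sections [IsAffine Y] [(nilradical Γ(Y, ⊤)).IsPrime]
    [LocallyOfFinitePresentation f] (hF : CohB1.IsFP F) {U : X.Opens} (hU : IsAffineOpen U) :
    ∃ (h : Γ(Y, ⊤)) (_ : ¬ IsNilpotent h) (J : Ideal Γ(Y, ⊤)) (_ : J.FG), J ≤ nilradical Γ(Y, ⊤) ∧
      ∀ {Y' : Scheme.{u}} (g : Y' ⟶ Y) [IsAffine Y'], IsUnit (g.appLE ⊤ ⊤ le_top h) →
        ((∀ x : ↥(pullback f g), pullback.fst f g x ∈ U →
          FlatMod.IsFlatOverAt (pullback.snd f g) ((Scheme.Modules.pullback (pullback.fst f g)).obj F) x) ↔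
            J.map (g.appLE ⊤ ⊤ le_top).hom = ⊥) := by
  let _ := (f.appLE ⊤ U le_top).hom.toAlgebra
  let _ := QcohFlat.overModule f F ⊤ U le_top
  have : IsScalarTower Γ(Y, ⊤) Γ(X, U) Γ(F, U) := IsScalarTower.of_algebraMap_smul fun _ _ => rfl
  have : Algebra.FinitePresentation Γ(Y, ⊤) Γ(X, U) :=
    HasRingHomProperty.appLE @LocallyOfFinitePresentation f inferInstance ⟨⊤, isAffineOpen_top Y⟩ ⟨U, hU⟩ le_top
  have := QcohFP.finitePresentation_sections F hF hU
  obtain ⟨h, hh, J, hJfg, hJ, key⟩ := exists_flattening (A := Γ(Y, ⊤)) (B := Γ(X, U)) Γ(F, U)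
  refine ⟨h, hh, J, hJfg, hJ, fun {Y'} g _ hu => (flat_piece_iff f F g hU).trans ?_⟩
  let _ := (g.appLE ⊤ ⊤ le_top).hom.toAlgebra
  exact key Γ(Y', ⊤) hu

theorem exists_flattening_global [IsAffine Y] [(nilradical Γ(Y, ⊤)).IsPrime]
    [LocallyOfFinitePresentation f] [QuasiCompact f] (hF : CohB1.IsFP F) :
    ∃ (h : Γ(Y, ⊤)) (_ : ¬ IsNilpotent h) (J : Ideal Γ(Y, ⊤)) (_ : J.FG), J ≤ nilradical Γ(Y, ⊤) ∧
      ∀ {Y' : Scheme.{u}} (g : Y' ⟶ Y) [IsAffine Y'], IsUnit (g.appLE ⊤ ⊤ le_top h) →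
        (FlatMod.IsFlatOver (pullback.snd f g) ((Scheme.Modules.pullback (pullback.fst f g)).obj F) ↔
            J.map (g.appLE ⊤ ⊤ le_top).hom = ⊥) := by
  classical
  have := QuasiCompact.compactSpace_of_compactSpace f
  obtain ⟨t, ht⟩ := isCompact_univ.elim_finite_subcover (fun U : X.affineOpens => ((U : X.Opens) : Set X))
    (fun U => (U : X.Opens).isOpen) (fun x _ => by
      obtain ⟨U, hU, hxU, -⟩ := Opens.isBasis_iff_nbhd.mp X.isBasis_affineOpens (Opens.mem_top x)
      exact Set.mem_iUnion.2 ⟨⟨U, hU⟩, hxU⟩)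
  choose h hh J hJfg hJ key using fun U : X.affineOpens => exists_flattening_sections f F hF U.2
  refine ⟨∏ U ∈ t, h U, fun hn => ?_, t.sup J, Submodule.fg_finset_sup _ _ fun U _ => hJfg U,
    Finset.sup_le fun U _ => hJ U, fun {Y'} g _ hu => ?_⟩
  · obtain ⟨U, -, hU⟩ := (‹(nilradical Γ(Y, ⊤)).IsPrime›.prod_mem_iff).1 hn
    exact hh U hU
  · rw [map_prod, IsUnit.prod_iff] at hu
    rw [Ideal.map_eq_bot_iff_le_ker, Finset.sup_le_iff]
    simp only [← Ideal.map_eq_bot_iff_le_ker]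
    constructor
    · exact fun hflat U hU => (key U g (hu U hU)).1 fun x _ => hflat x
    · intro hJt x
      obtain ⟨U, hxU⟩ := Set.mem_iUnion.1 (ht (Set.mem_univ (pullback.fst f g x)))
      obtain ⟨hU, hxU⟩ := Set.mem_iUnion.1 hxU
      exact (key U g (hu U hU)).2 (hJt U hU) x hxU

end

/-- The statement over `Spec A`. -/
theorem exists_flattening_spec {A : Type u} [CommRing A] [IrreducibleSpace (PrimeSpectrum A)]
    {X : Scheme.{u}} (f : X ⟶ Spec (CommRingCat.of A)) [LocallyOfFinitePresentation f] [QuasiCompact f]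
    (F : X.Modules) [Coh.IsQCoh F] (hF : CohB1.IsFP F) :
    ∃ (h : A) (_ : ¬ IsNilpotent h) (J : Ideal (Localization.Away h)) (_ : J.FG)
      (_ : J ≤ nilradical (Localization.Away h)),
      ∀ (A' : Type u) [CommRing A'] [Algebra (Localization.Away h) A'],
        letI g : Spec (CommRingCat.of A') ⟶ Spec (CommRingCat.of A) :=
          Spec.map (CommRingCat.ofHom ((algebraMap (Localization.Away h) A').comp (algebraMap A (Localization.Away h))))
        (FlatMod.IsFlatOver (pullback.snd f g) ((Scheme.Modules.pullback (pullback.fst f g)).obj F) ↔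
          Ideal.map (algebraMap (Localization.Away h) A') J = ⊥) := by
  let e := (Scheme.ΓSpecIso (CommRingCat.of A)).commRingCatIsoToRingEquiv
  have hp : (nilradical A).IsPrime := PrimeSpectrum.irreducibleSpace_iff_isPrime_nilradical.1 inferInstance
  have : (nilradical Γ(Spec (CommRingCat.of A), ⊤)).IsPrime := by
    rw [show nilradical Γ(Spec (CommRingCat.of A), ⊤) = (nilradical A).comap e.toRingHom from
      Ideal.ext fun r => (IsNilpotent.map_iff e.injective).symm]
    exact Ideal.IsPrime.comap _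
  obtain ⟨h₀, hh₀, J₀, hJfg, hJ, key⟩ := exists_flattening_global f F hF
  let i := algebraMap A (Localization.Away (e h₀))
  refine ⟨e h₀, fun hn => hh₀ ((IsNilpotent.map_iff e.injective).1 hn), J₀.map (i.comp e.toRingHom),
    Ideal.FG.map hJfg _, Ideal.map_le_iff_le_comap.2 fun r hr => IsNilpotent.map (hJ hr) (i.comp e.toRingHom),
    fun A' _ _ => ?_⟩
  let u := CommRingCat.ofHom ((algebraMap (Localization.Away (e h₀)) A').comp i)
  let e' := (Scheme.ΓSpecIso (CommRingCat.of A')).commRingCatIsoToRingEquiv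
  have hnat : ∀ r, e' ((Spec.map u).appLE ⊤ ⊤ le_top r) = u.hom (e r) := fun r => by
    rw [show (Spec.map u).appLE ⊤ ⊤ le_top = (Spec.map u).appTop by simp [Scheme.Hom.appLE]]
    exact ConcreteCategory.congr_hom (Scheme.ΓSpecIso_naturality u) r
  refine (key (Spec.map u) ?_).trans ?_
  · rw [← MulEquiv.isUnit_map e', hnat]
    exact (IsLocalization.Away.algebraMap_isUnit (R := A) (S := Localization.Away (e h₀)) (e h₀)).map
      (algebraMap (Localization.Away (e h₀)) A')
  · rw [Ideal.map_map, Ideal.map_eq_bot_iff_le_ker, Ideal.map_eq_bot_iff_le_ker]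
    refine forall₂_congr fun r _ => ?_
    rw [RingHom.mem_ker, RingHom.mem_ker, ← e'.map_eq_zero_iff]
    exact Eq.congr_left (hnat r)

end Groth.Agent.EGA43.FlatIdeal
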